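import Cfsg.Agent.Lib.L33Graph.Model
import Cfsg.Agent.Lib.SLPerfect

set_option autoImplicit false
set_option linter.unusedSectionVars false

/-!
A group with the commuting graph of `SL₃(3)` is isomorphic to it: it acts faithfully on the incidence graph
of the plane of order three, which is visible in the commuting graph.
-/

namespace CfsgLib.L33Graph

variable {H : Type*} [Group H] [Finite H]

/-- Stars of flags: points and lines. -/
abbrev Star : Type := Fin 13 ⊕ Fin 13

/-- A flag in a star. -/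
def Mem : Star → Fl → Prop
  | Sum.inl i, f => f.1.1 = i
  | Sum.inr j, f => f.1.2 = j

theorem exists_two (s : Star) : ∃ a b : Fl, a ≠ b ∧ Mem s a ∧ Mem s b := by
  rcases s with i | j
  · obtain ⟨j, l, hne, hj, hl⟩ := two_lines i
    exact ⟨⟨(i, j), hj⟩, ⟨(i, l), hl⟩, fun e => hne (congrArg (fun f : Fl => f.1.2) e), rfl, rfl⟩
  · obtain ⟨i, k, hne, hi, hk⟩ := two_points j
    exact ⟨⟨(i, j), hi⟩, ⟨(k, j), hk⟩, fun e => hne (congrArg (fun f : Fl => f.1.1) e), rfl, rfl⟩

theorem share_of_mem {s : Star} {a b : Fl} (ha : Mem s a) (hb : Mem s b) : Share a b := by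
  rcases s with i | j
  · exact Or.inl (ha.trans hb.symm)
  · exact Or.inr (ha.trans hb.symm)

theorem exists_common {a b : Fl} (h : Share a b) : ∃ s, Mem s a ∧ Mem s b := by
  rcases h with h | h
  · exact ⟨Sum.inl a.1.1, rfl, h.symm⟩
  · exact ⟨Sum.inr a.1.2, rfl, h.symm⟩

theorem mem_unique {s t : Star} {a b : Fl} (hab : a ≠ b) (h1 : Mem s a) (h2 : Mem s b) (h3 : Mem t a)
    (h4 : Mem t b) : s = t := by
  rcases s with i | j <;> rcases t with i' | j'
  · exact congrArg _ (h1.symm.trans h3)
  · exact absurd (Subtype.ext (Prod.ext (h1.trans h2.symm) (h3.trans h4.symm))) hab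
  · exact absurd (Subtype.ext (Prod.ext (h3.trans h4.symm) (h1.trans h2.symm))) hab
  · exact congrArg _ (h1.symm.trans h3)

theorem mem_of_share {s : Star} {a b c : Fl} (hab : a ≠ b) (h1 : Mem s a) (h2 : Mem s b) (ha : Share c a)
    (hb : Share c b) : Mem s c := by
  rcases s with i | j
  · rcases ha with e | e
    · exact e.trans h1
    · rcases hb with e' | e'
      · exact e'.trans h2
      · exact absurd (Subtype.ext (Prod.ext (h1.trans h2.symm) (e.symm.trans e'))) hab
  · rcases ha with e | e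
    · rcases hb with e' | e'
      · exact absurd (Subtype.ext (Prod.ext (e.symm.trans e') (h1.trans h2.symm))) hab
      · exact e'.trans h2
    · exact e.trans h1

theorem twin {a b : Fl} (h : ∀ c, Share a c ↔ Share b c) : a = b := by
  by_contra hne
  obtain ⟨s, hsb, hsa⟩ := exists_common ((h a).mp (Or.inl rfl))
  rcases s with i | j
  · obtain ⟨p, q, hpq, hp, hq⟩ := two_points a.1.2
    obtain ⟨k, hki, hk⟩ : ∃ k, k ≠ i ∧ inc k a.1.2 = true := by
      by_cases e : p = i
      · exact ⟨q, fun e' => hpq (e.trans e'.symm), hq⟩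
      · exact ⟨p, e, hp⟩
    rcases (h ⟨(k, a.1.2), hk⟩).mp (Or.inr rfl) with e | e
    · exact hki (e.symm.trans hsb)
    · exact hne (Subtype.ext (Prod.ext (hsa.trans hsb.symm) e.symm))
  · obtain ⟨p, q, hpq, hp, hq⟩ := two_lines a.1.1
    obtain ⟨k, hki, hk⟩ : ∃ k, k ≠ j ∧ inc a.1.1 k = true := by
      by_cases e : p = j
      · exact ⟨q, fun e' => hpq (e.trans e'.symm), hq⟩
      · exact ⟨p, e, hp⟩
    rcases (h ⟨(a.1.1, k), hk⟩).mp (Or.inl rfl) with e | e
    · exact hne (Subtype.ext (Prod.ext e.symm (hsa.trans hsb.symm)))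
    · exact hki (e.symm.trans hsb)

theorem card_compl (G : Type*) [Group G] [Finite G] : Nat.card G = Nat.card {g : G // g ≠ 1} + 1 := by
  classical
  rw [← Finite.card_option]
  exact (Nat.card_congr (Equiv.optionSubtypeNe 1)).symm

/-- The non-identity elements of a centralizer, as non-identity elements. -/
def centPts {J : Type*} [Group J] (c : J) :
    {g : Subgroup.centralizer ({c} : Set J) // g ≠ 1} ≃ {y : {g : J // g ≠ 1} // (y : J) * c = c * y} where
  toFun g := ⟨⟨(g.1 : J), fun e => g.2 (Subtype.ext e)⟩, Subgroup.mem_centralizer_singleton_iff.mp g.1.2⟩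
  invFun y := ⟨⟨y.1.1, Subgroup.mem_centralizer_singleton_iff.mpr y.2⟩, fun e => y.1.2 (congrArg Subtype.val e)⟩
  left_inv _ := rfl
  right_inv _ := rfl

/-- A group with the commuting graph of `SL₃(3)`. -/
structure Data (H : Type*) [Group H] where
  f : {h : H // h ≠ 1} ≃ {g : SL33 // g ≠ 1}
  hf : ∀ x y : {h : H // h ≠ 1}, (x : H) * y = y * x ↔ ((f x) : SL33) * (f y) = (f y) * (f x)

variable (D : Data H)

theorem Data.card_eq (D : Data H) : Nat.card H = 5616 := by
  rw [card_compl H, Nat.card_congr D.f, ← card_compl, card_SL33]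

theorem Data.card_cent (x : {h : H // h ≠ 1}) :
    Nat.card (Subgroup.centralizer ({(x : H)} : Set H)) =
      Nat.card (Subgroup.centralizer ({((D.f x) : SL33)} : Set SL33)) := by
  rw [card_compl ↥(Subgroup.centralizer ({(x : H)} : Set H)),
    card_compl ↥(Subgroup.centralizer ({((D.f x) : SL33)} : Set SL33)),
    Nat.card_congr (centPts (x : H)), Nat.card_congr (centPts ((D.f x) : SL33))]
  congr 1
  exact Nat.card_congr (Equiv.subtypeEquiv D.f fun y => D.hf y x)

/-- The element of a signed flag. -/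
def Data.el (q : Fl × Bool) : H := (D.f.symm ⟨tv q.1 q.2, tv_ne_one _ _⟩).1

theorem Data.el_ne_one (q : Fl × Bool) : D.el q ≠ 1 := (D.f.symm ⟨tv q.1 q.2, tv_ne_one _ _⟩).2

theorem Data.el_inj : Function.Injective D.el := by
  intro q q' e
  have h := congrArg Subtype.val (D.f.symm.injective (Subtype.ext e) :
    (⟨tv q.1 q.2, tv_ne_one _ _⟩ : {g : SL33 // g ≠ 1}) = ⟨tv q'.1 q'.2, tv_ne_one _ _⟩)
  obtain ⟨h1, h2⟩ := tv_inj h
  exact Prod.ext h1 h2

theorem Data.el_commute (q q' : Fl × Bool) : Commute (D.el q) (D.el q') ↔ Share q.1 q'.1 := by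
  rw [← tv_commute q.1 q'.1 q.2 q'.2]
  have h := D.hf (D.f.symm ⟨tv q.1 q.2, tv_ne_one _ _⟩) (D.f.symm ⟨tv q'.1 q'.2, tv_ne_one _ _⟩)
  rw [Equiv.apply_symm_apply, Equiv.apply_symm_apply] at h
  exact h

theorem Data.mem_range_el {x : H} (hx : x ≠ 1) :
    (∃ q, D.el q = x) ↔ 27 ∣ Nat.card (Subgroup.centralizer ({x} : Set H)) := by
  rw [D.card_cent ⟨x, hx⟩]
  constructor
  · rintro ⟨q, rfl⟩
    have : D.f ⟨D.el q, hx⟩ = ⟨tv q.1 q.2, tv_ne_one _ _⟩ := D.f.apply_symm_apply _
    rw [this]
    exact ((isTV_iff _).mp ⟨_, _, rfl⟩).2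
  · intro h
    obtain ⟨f, c, e⟩ := (isTV_iff _).mpr ⟨(D.f ⟨x, hx⟩).2, h⟩
    refine ⟨(f, c), ?_⟩
    have : (⟨tv f c, tv_ne_one _ _⟩ : {g : SL33 // g ≠ 1}) = D.f ⟨x, hx⟩ := Subtype.ext e.symm
    show (D.f.symm ⟨tv f c, tv_ne_one _ _⟩).1 = x
    rw [this, Equiv.symm_apply_apply]

theorem Data.exists_pi (h : H) (q : Fl × Bool) : ∃ q', D.el q' = h * D.el q * h⁻¹ := by
  refine (D.mem_range_el fun e => D.el_ne_one q (conj_eq_one_iff.mp e)).mpr ?_
  have hle : (Subgroup.centralizer ({D.el q} : Set H)).map (MulAut.conj h).toMonoidHom ≤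
      Subgroup.centralizer ({h * D.el q * h⁻¹} : Set H) := by
    rintro _ ⟨u, hu, rfl⟩
    exact Subgroup.mem_centralizer_singleton_iff.mpr
      ((show Commute u (D.el q) from Subgroup.mem_centralizer_singleton_iff.mp hu).map
        (MulAut.conj h).toMonoidHom).eq
  have hd := Subgroup.card_dvd_of_le hle
  rw [Subgroup.card_map_of_injective (MulAut.conj h).injective] at hd
  exact ((D.mem_range_el (D.el_ne_one q)).mp ⟨q, rfl⟩).trans hd

/-- The image of a signed flag. -/
noncomputable def Data.piFun (h : H) (q : Fl × Bool) : Fl × Bool := (D.exists_pi h q).choose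

theorem Data.piFun_spec (h : H) (q : Fl × Bool) : D.el (D.piFun h q) = h * D.el q * h⁻¹ :=
  (D.exists_pi h q).choose_spec

theorem Data.piFun_mul (g h : H) (q : Fl × Bool) : D.piFun (g * h) q = D.piFun g (D.piFun h q) :=
  D.el_inj (by rw [D.piFun_spec, D.piFun_spec, D.piFun_spec]; group)

theorem Data.piFun_one (q : Fl × Bool) : D.piFun 1 q = q := D.el_inj (by rw [D.piFun_spec]; group)

theorem Data.piFun_share (h : H) (q q' : Fl × Bool) :
    Share (D.piFun h q).1 (D.piFun h q').1 ↔ Share q.1 q'.1 := by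
  rw [← D.el_commute, ← D.el_commute, D.piFun_spec, D.piFun_spec, ← MulAut.conj_apply, ← MulAut.conj_apply]
  exact ⟨fun e => by simpa [mul_assoc] using e.map (MulAut.conj h).symm.toMonoidHom,
    fun e => e.map (MulAut.conj h).toMonoidHom⟩

theorem Data.piFun_fst (h : H) (f : Fl) (b : Bool) : (D.piFun h (f, b)).1 = (D.piFun h (f, true)).1 := by
  refine twin fun c => ?_
  have hc : D.piFun h (D.piFun h⁻¹ (c, true)) = (c, true) := by rw [← D.piFun_mul, mul_inv_cancel, D.piFun_one]
  rw [← show (D.piFun h (D.piFun h⁻¹ (c, true))).1 = c by rw [hc], D.piFun_share, D.piFun_share]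

/-- The image of a flag. -/
noncomputable def Data.flag (h : H) (f : Fl) : Fl := (D.piFun h (f, true)).1

theorem Data.flag_one (f : Fl) : D.flag 1 f = f := by rw [Data.flag, D.piFun_one]

theorem Data.flag_mul (g h : H) (f : Fl) : D.flag (g * h) f = D.flag g (D.flag h f) := by
  rw [Data.flag, D.piFun_mul, D.piFun_fst g (D.piFun h (f, true)).1 (D.piFun h (f, true)).2 |>.symm.trans rfl |>.symm]
  rfl

theorem Data.flag_inv (h : H) (f : Fl) : D.flag h⁻¹ (D.flag h f) = f := by
  rw [← D.flag_mul, inv_mul_cancel, D.flag_one]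

theorem Data.flag_share (h : H) (a b : Fl) : Share (D.flag h a) (D.flag h b) ↔ Share a b :=
  D.piFun_share h _ _

theorem Data.flag_inj (h : H) : Function.Injective (D.flag h) := Function.LeftInverse.injective (D.flag_inv h)

theorem Data.exists_star (h : H) (s : Star) : ∃ t, ∀ f, Mem s f → Mem t (D.flag h f) := by
  obtain ⟨a, b, hab, ha, hb⟩ := exists_two s
  obtain ⟨t, hta, htb⟩ := exists_common ((D.flag_share h a b).mpr (share_of_mem ha hb))
  exact ⟨t, fun f hf => mem_of_share ((D.flag_inj h).ne hab) hta htb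
    ((D.flag_share h f a).mpr (share_of_mem hf ha)) ((D.flag_share h f b).mpr (share_of_mem hf hb))⟩

/-- The image of a star. -/
noncomputable def Data.star (h : H) (s : Star) : Star := (D.exists_star h s).choose

theorem Data.star_spec (h : H) {s : Star} {f : Fl} (hf : Mem s f) : Mem (D.star h s) (D.flag h f) :=
  (D.exists_star h s).choose_spec f hf

theorem Data.star_unique (h : H) {s t : Star} (ht : ∀ f, Mem s f → Mem t (D.flag h f)) : D.star h s = t := by
  obtain ⟨a, b, hab, ha, hb⟩ := exists_two s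
  exact mem_unique ((D.flag_inj h).ne hab) (D.star_spec h ha) (D.star_spec h hb) (ht a ha) (ht b hb)

theorem Data.star_one (s : Star) : D.star 1 s = s := D.star_unique 1 fun f hf => by rwa [D.flag_one]

theorem Data.star_mul (g h : H) (s : Star) : D.star (g * h) s = D.star g (D.star h s) :=
  D.star_unique _ fun f hf => by rw [D.flag_mul]; exact D.star_spec g (D.star_spec h hf)

theorem Data.star_inj (h : H) : Function.Injective (D.star h) := fun s t e => by
  rw [← D.star_one s, ← D.star_one t, ← inv_mul_cancel h, D.star_mul, D.star_mul, e]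

theorem Data.star_mem_iff (h : H) (s : Star) (f : Fl) : Mem (D.star h s) (D.flag h f) ↔ Mem s f := by
  refine ⟨fun e => ?_, D.star_spec h⟩
  have := D.star_spec h⁻¹ e
  rwa [← D.star_mul, inv_mul_cancel, D.star_one, D.flag_inv] at this

theorem side_ne {s t : Star} {f : Fl} (hs : Mem s f) (ht : Mem t f) (hst : s ≠ t) : s.isLeft = !t.isLeft := by
  rcases s with i | j <;> rcases t with i' | j'
  · exact absurd (congrArg _ (hs.symm.trans ht)) hst
  · rfl
  · rfl
  · exact absurd (congrArg _ (hs.symm.trans ht)) hst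

theorem Data.side_adj (h : H) {i j : Fin 13} (hij : inc i j = true) :
    (D.star h (Sum.inl i)).isLeft = !(D.star h (Sum.inr j)).isLeft :=
  side_ne (D.star_spec h (s := Sum.inl i) (f := ⟨(i, j), hij⟩) rfl) (D.star_spec h rfl)
    ((D.star_inj h).ne Sum.inl_ne_inr)

theorem Data.side_point (h : H) (i : Fin 13) :
    (D.star h (Sum.inl i)).isLeft = (D.star h (Sum.inl 0)).isLeft := by
  rw [D.side_adj h (join_spec i 0).1, D.side_adj h (join_spec i 0).2]

theorem Data.side_line (h : H) (j : Fin 13) :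
    (D.star h (Sum.inr j)).isLeft = !(D.star h (Sum.inl 0)).isLeft := by
  obtain ⟨i, -, -, hi, -⟩ := two_points j
  rw [← D.side_point h i, D.side_adj h hi, Bool.not_not]

theorem Data.side_mul (g h : H) : (D.star (g * h) (Sum.inl 0)).isLeft =
    if (D.star h (Sum.inl 0)).isLeft then (D.star g (Sum.inl 0)).isLeft else !(D.star g (Sum.inl 0)).isLeft := by
  rw [D.star_mul]
  rcases e : D.star h (Sum.inl 0) with i | j
  · simpa using D.side_point g i
  · simpa using D.side_line g j

/-- The elements preserving points. -/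
noncomputable def Data.pres : Subgroup H where
  carrier := {h | (D.star h (Sum.inl 0)).isLeft = true}
  one_mem' := by simp [D.star_one]
  mul_mem' := fun {g h} hg hh => by
    show _ = true
    rw [D.side_mul, if_pos (show _ = true from hh)]; exact hg
  inv_mem' := fun {h} hh => by
    show _ = true
    have e := D.side_mul h⁻¹ h
    rw [inv_mul_cancel, D.star_one, if_pos (show _ = true from hh)] at e
    exact e.symm

theorem Data.mem_pres {h : H} : h ∈ D.pres ↔ (D.star h (Sum.inl 0)).isLeft = true := Iff.rfl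

theorem Data.pres_index : D.pres = ⊤ ∨ D.pres.index = 2 := by
  by_cases h : ∃ a, a ∉ D.pres
  · obtain ⟨a, ha⟩ := h
    right
    rw [D.mem_pres, Bool.not_eq_true] at ha
    rw [Subgroup.index_eq_two_iff]
    refine ⟨a, fun b => ?_⟩
    rw [xor_iff_not_iff', D.mem_pres, D.mem_pres, D.side_mul, ha]
    simp
  · left
    push Not at h
    exact (Subgroup.eq_top_iff' _).mpr h

theorem Data.star_point (k : D.pres) (i : Fin 13) : ∃ i', D.star k (Sum.inl i) = Sum.inl i' := by
  have h : (D.star k (Sum.inl i)).isLeft = true := (D.side_point k i).trans k.2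
  exact Sum.isLeft_iff.mp h

theorem Data.star_line (k : D.pres) (j : Fin 13) : ∃ j', D.star k (Sum.inr j) = Sum.inr j' := by
  have h : (D.star k (Sum.inr j)).isLeft = false := by rw [D.side_line k j, D.mem_pres.mp k.2]; rfl
  exact Sum.isRight_iff.mp (by simpa using h)

/-- The image of a point. -/
noncomputable def Data.pointFun (k : D.pres) (i : Fin 13) : Fin 13 := (D.star_point k i).choose

theorem Data.pointFun_spec (k : D.pres) (i : Fin 13) : D.star k (Sum.inl i) = Sum.inl (D.pointFun k i) :=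
  (D.star_point k i).choose_spec

theorem Data.pointFun_mul (k l : D.pres) (i : Fin 13) : D.pointFun (k * l) i = D.pointFun k (D.pointFun l i) :=
  Sum.inl_injective (by rw [← D.pointFun_spec, ← D.pointFun_spec, ← D.pointFun_spec, ← D.star_mul]; rfl)

theorem Data.pointFun_one (i : Fin 13) : D.pointFun 1 i = i :=
  Sum.inl_injective (by rw [← D.pointFun_spec]; exact D.star_one _)

/-- The permutation of the points. -/
noncomputable def Data.pointPerm : D.pres →* Equiv.Perm (Fin 13) where
  toFun k :=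
    { toFun := D.pointFun k
      invFun := D.pointFun k⁻¹
      left_inv := fun i => by rw [← D.pointFun_mul, inv_mul_cancel, D.pointFun_one]
      right_inv := fun i => by rw [← D.pointFun_mul, mul_inv_cancel, D.pointFun_one] }
  map_one' := Equiv.ext D.pointFun_one
  map_mul' k l := Equiv.ext (D.pointFun_mul k l)

theorem Data.pointPerm_spec (k : D.pres) (i : Fin 13) :
    D.star k (Sum.inl i) = Sum.inl (D.pointPerm k i) := D.pointFun_spec k i

theorem Data.pointPerm_coll (k : D.pres) : D.pointPerm k ∈ Coll := by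
  let t : Fin 13 → Fin 13 := fun j => (D.star_line k j).choose
  have ht : ∀ j, D.star k (Sum.inr j) = Sum.inr (t j) := fun j => (D.star_line k j).choose_spec
  have hinj : Function.Injective t := fun a b e =>
    Sum.inr_injective (D.star_inj k (by rw [ht, ht, e]))
  refine ⟨Equiv.ofBijective t hinj.bijective_of_finite, fun i j => ?_⟩
  rw [Bool.eq_iff_iff]
  show inc (D.pointPerm k i) (t j) = true ↔ _
  constructor
  · intro h
    let f : Fl := ⟨(D.pointPerm k i, t j), h⟩
    obtain ⟨f', hf'⟩ : ∃ f', D.flag k f' = f := ⟨D.flag (k : H)⁻¹ f, by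
      rw [← D.flag_mul, mul_inv_cancel, D.flag_one]⟩
    have h1 : Mem (Sum.inl i) f' := (D.star_mem_iff k _ _).mp (by rw [D.pointPerm_spec, hf']; rfl)
    have h2 : Mem (Sum.inr j) f' := (D.star_mem_iff k _ _).mp (by rw [ht, hf']; rfl)
    have := f'.2
    rwa [show f'.1.1 = i from h1, show f'.1.2 = j from h2] at this
  · intro h
    have h1 := D.star_spec k (s := Sum.inl i) (f := ⟨(i, j), h⟩) rfl
    have h2 := D.star_spec k (s := Sum.inr j) (f := ⟨(i, j), h⟩) rfl
    rw [D.pointPerm_spec] at h1
    rw [ht] at h2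
    have := (D.flag k ⟨(i, j), h⟩).2
    rwa [show (D.flag k ⟨(i, j), h⟩).1.1 = _ from h1, show (D.flag k ⟨(i, j), h⟩).1.2 = _ from h2] at this

theorem Data.eq_one_of_flags {h : H} (hh : ∀ f, D.flag h f = f) : h = 1 := by
  classical
  -- the kernel of the action on flags has exponent two
  let S : Subgroup H :=
    { carrier := {g | ∀ f, D.flag g f = f}
      one_mem' := D.flag_one
      mul_mem' := fun {a b} ha hb f => by rw [D.flag_mul, hb, ha]
      inv_mem' := fun {a} ha f => by conv_lhs => rw [← ha f]; rw [D.flag_inv] }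
  have hsq : ∀ g ∈ S, g ^ 2 = 1 := by
    intro g hg
    by_contra hne
    have hcomm : ∀ q, Commute (g ^ 2) (D.el q) := by
      rintro ⟨f, b⟩
      have e1 : ∀ b, (D.piFun g (f, b)).1 = f := fun b => (D.piFun_fst g f b).trans (hg f)
      have hinj : (D.piFun g (f, true)).2 ≠ (D.piFun g (f, false)).2 := by
        intro e
        have e3 : D.piFun g (f, true) = D.piFun g (f, false) := Prod.ext ((e1 _).trans (e1 _).symm) e
        have e4 := congrArg D.el e3
        rw [D.piFun_spec, D.piFun_spec] at e4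
        have := D.el_inj (mul_left_cancel (mul_right_cancel e4))
        simp at this
      have key : ∀ x y b : Bool, x ≠ y → cond (cond b x y) x y = b := by decide
      have e2 : ∀ b, D.piFun g (f, b) = (f, cond b (D.piFun g (f, true)).2 (D.piFun g (f, false)).2) := fun b => by
        cases b <;> exact Prod.ext (e1 _) rfl
      have h2 : D.piFun (g ^ 2) (f, b) = (f, b) := by
        rw [sq, D.piFun_mul, e2 b, e2, key _ _ _ hinj]
      have := D.piFun_spec (g ^ 2) (f, b)
      rw [h2] at this
      exact mul_inv_eq_iff_eq_mul.mp this.symm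
    refine (D.f ⟨g ^ 2, hne⟩).2 (eq_one_of_commute fun f c => ?_)
    have h' := (D.hf ⟨g ^ 2, hne⟩ (D.f.symm ⟨tv f c, tv_ne_one f c⟩)).mp (hcomm (f, c))
    rw [Equiv.apply_symm_apply] at h'
    exact h'
  -- an element of order thirteen acts on it
  have h13ne : thirteen ≠ 1 := fun e => by
    have h1 := congrFun (congrFun (congrArg Subtype.val e) 0) 0
    simp [thirteen] at h1
  set a := (D.f.symm ⟨thirteen, h13ne⟩).1 with hadef
  have hCa : Nat.card (Subgroup.centralizer ({a} : Set H)) = 13 := by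
    rw [D.card_cent, Equiv.apply_symm_apply, thirteen_centralizer]
  haveI : Fact (Nat.Prime 13) := ⟨by norm_num⟩
  haveI : Fact (Nat.Prime 2) := ⟨Nat.prime_two⟩
  have hoa : orderOf a = 13 := orderOf_eq_prime (orderOf_dvd_iff_pow_eq_one.mp
    (hCa ▸ Subgroup.orderOf_dvd_natCard _ (Subgroup.mem_centralizer_singleton_iff.mpr rfl)))
    (D.f.symm ⟨thirteen, h13ne⟩).2
  letI act : MulAction (Subgroup.zpowers a) S :=
    { smul := fun z g => ⟨(z : H) * g * (z : H)⁻¹, fun f => by
        rw [D.flag_mul, D.flag_mul, g.2, ← D.flag_mul, mul_inv_cancel, D.flag_one]⟩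
      one_smul := fun g => Subtype.ext (show ((1 : Subgroup.zpowers a) : H) * (g : H) * _ = g by simp)
      mul_smul := fun z w g => Subtype.ext (show ((z * w : Subgroup.zpowers a) : H) * (g : H) * _ =
        (z : H) * ((w : H) * g * (w : H)⁻¹) * (z : H)⁻¹ by simp [mul_assoc]) }
  have hP : IsPGroup 13 (Subgroup.zpowers a) := IsPGroup.of_card (n := 1) (by rw [Nat.card_zpowers, hoa, pow_one])
  have hfix : Nat.card (MulAction.fixedPoints (Subgroup.zpowers a) S) = 1 := by
    rw [Nat.card_eq_one_iff_unique]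
    refine ⟨⟨fun u v => ?_⟩, ⟨⟨1, fun z => Subtype.ext (show (z : H) * 1 * _ = 1 by simp)⟩⟩⟩
    have key : ∀ w : MulAction.fixedPoints (Subgroup.zpowers a) S, (w.1 : H) = 1 := fun w => by
      have hc : (w.1 : H) ∈ Subgroup.centralizer ({a} : Set H) := Subgroup.mem_centralizer_singleton_iff.mpr
        (mul_inv_eq_iff_eq_mul.mp (congrArg Subtype.val (w.2 ⟨a, Subgroup.mem_zpowers a⟩) :
          a * (w.1 : H) * a⁻¹ = (w.1 : H))).symm
      have h1 := Subgroup.orderOf_dvd_natCard _ hc
      rw [hCa] at h1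
      have h2 : orderOf (w.1 : H) ∣ 2 := orderOf_dvd_of_pow_eq_one (hsq _ w.1.2)
      exact orderOf_eq_one_iff.mp (Nat.dvd_one.mp (show orderOf (w.1 : H) ∣ Nat.gcd 13 2 from Nat.dvd_gcd h1 h2))
    exact Subtype.ext (Subtype.ext ((key u).trans (key v).symm))
  have hmod := hP.card_modEq_card_fixedPoints S
  rw [hfix] at hmod
  have hS2 : IsPGroup 2 S := fun g => ⟨1, Subtype.ext (hsq _ g.2)⟩
  obtain ⟨m, hm⟩ := hS2.exists_card_eq
  have hdvd : 2 ^ m ∣ 5616 := hm ▸ D.card_eq ▸ Subgroup.card_subgroup_dvd_card S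
  have hm4 : m ≤ 4 := by
    by_contra hlt
    have : 2 ^ 5 ∣ 5616 := (pow_dvd_pow 2 (by omega)).trans hdvd
    norm_num at this
  have hS1 : Nat.card S = 1 := by
    rw [hm] at hmod ⊢
    interval_cases m <;> first | rfl | (norm_num [Nat.ModEq] at hmod)
  have : S = ⊥ := Subgroup.eq_bot_of_card_eq S hS1
  exact Subgroup.mem_bot.mp (this ▸ (hh : h ∈ S))

theorem Data.pointPerm_inj : Function.Injective D.pointPerm := by
  rw [injective_iff_map_eq_one]
  intro k hk
  refine Subtype.ext (D.eq_one_of_flags fun f => ?_)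
  have hp : ∀ i, D.star k (Sum.inl i) = Sum.inl i := fun i => by rw [D.pointPerm_spec, hk]; rfl
  have hl : ∀ j, D.star k (Sum.inr j) = Sum.inr j := fun j => by
    obtain ⟨p, q, hpq, hp', hq'⟩ := two_points j
    obtain ⟨j', hj'⟩ := D.star_line k j
    have h1 := D.star_spec k (s := Sum.inr j) (f := ⟨(p, j), hp'⟩) rfl
    have h1' := D.star_spec k (s := Sum.inl p) (f := ⟨(p, j), hp'⟩) rfl
    have h2 := D.star_spec k (s := Sum.inr j) (f := ⟨(q, j), hq'⟩) rfl
    have h2' := D.star_spec k (s := Sum.inl q) (f := ⟨(q, j), hq'⟩) rfl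
    rw [hj'] at h1 h2 ⊢
    rw [hp] at h1' h2'
    have i1 := (D.flag k ⟨(p, j), hp'⟩).2
    have i2 := (D.flag k ⟨(q, j), hq'⟩).2
    rw [show (D.flag k ⟨(p, j), hp'⟩).1.1 = p from h1', show (D.flag k ⟨(p, j), hp'⟩).1.2 = j' from h1] at i1
    rw [show (D.flag k ⟨(q, j), hq'⟩).1.1 = q from h2', show (D.flag k ⟨(q, j), hq'⟩).1.2 = j' from h2] at i2
    rw [line_unique p q hpq j hp' hq' j' i1 i2]
  have a1 := D.star_spec k (s := Sum.inl f.1.1) (f := f) rfl
  have a2 := D.star_spec k (s := Sum.inr f.1.2) (f := f) rfl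
  rw [hp] at a1
  rw [hl] at a2
  exact Subtype.ext (Prod.ext a1 a2)

/-- The map to the collineations. -/
noncomputable def Data.toColl : D.pres →* Coll := D.pointPerm.codRestrict _ D.pointPerm_coll

theorem Data.toColl_inj : Function.Injective D.toColl := fun a b e =>
  D.pointPerm_inj (congrArg Subtype.val e)

theorem SL33_simple : IsSimpleGroup SL33 := by
  haveI : Fact (Nat.Prime 3) := ⟨Nat.prime_three⟩
  haveI := CfsgLib.SLPerfect.isSimpleGroup (F := ZMod 3) (n := 3) le_rfl
  have hc : Subgroup.center SL33 = ⊥ := by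
    refine (Subgroup.eq_bot_iff_forall _).mpr fun x hx => eq_one_of_commute fun f c => ?_
    exact ((Subgroup.mem_center_iff.mp hx) _).symm
  exact ((QuotientGroup.quotientMulEquivOfEq hc).trans QuotientGroup.quotientBot).symm.isSimpleGroup

theorem no_index_two {G : Type*} [Group G] [Finite G] [IsSimpleGroup G] (hG : 2 < Nat.card G) (K : Subgroup G) :
    K.index ≠ 2 := by
  intro h
  haveI := Subgroup.normal_of_index_eq_two h
  rcases (inferInstance : K.Normal).eq_bot_or_eq_top with rfl | rfl
  · rw [Subgroup.index_bot] at h; omega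
  · rw [Subgroup.index_top] at h; omega

/-- The identity. -/
def selfData : Data SL33 := ⟨Equiv.refl _, fun _ _ => Iff.rfl⟩

theorem coll_equiv : Nonempty (SL33 ≃* Coll) := by
  haveI := SL33_simple
  have htop : selfData.pres = ⊤ := selfData.pres_index.resolve_right (no_index_two (by rw [card_SL33]; norm_num) _)
  let F : SL33 →* Coll := selfData.toColl.comp ((Subgroup.topEquiv.symm.trans
    (MulEquiv.subgroupCongr htop.symm)).toMonoidHom)
  have hF : Function.Injective F := selfData.toColl_inj.comp (MulEquiv.injective _)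
  refine ⟨MulEquiv.ofBijective F ((Nat.bijective_iff_injective_and_card F).mpr ⟨hF, ?_⟩)⟩
  exact le_antisymm (Nat.card_le_card_of_injective F hF) (by rw [card_SL33]; exact card_coll)

/-- A group with the commuting graph of `SL₃(3)` is isomorphic to it. -/
theorem Data.iso (D : Data H) : Nonempty (H ≃* SL33) := by
  haveI := SL33_simple
  obtain ⟨e⟩ := coll_equiv
  let ψ : D.pres →* SL33 := e.symm.toMonoidHom.comp D.toColl
  have hψ : Function.Injective ψ := e.symm.injective.comp D.toColl_inj
  have hcard : Nat.card ψ.range = Nat.card D.pres := (Nat.card_congr (MonoidHom.ofInjective hψ).toEquiv).symm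
  rcases D.pres_index with htop | h2
  · let F : H →* SL33 := ψ.comp ((Subgroup.topEquiv.symm.trans (MulEquiv.subgroupCongr htop.symm)).toMonoidHom)
    exact ⟨MulEquiv.ofBijective F ((Nat.bijective_iff_injective_and_card F).mpr
      ⟨hψ.comp (MulEquiv.injective _), by rw [D.card_eq, card_SL33]⟩)⟩
  · exfalso
    refine no_index_two (by rw [card_SL33]; norm_num) ψ.range ?_
    have h1 := D.pres.card_mul_index
    have h3 := ψ.range.card_mul_index
    rw [D.card_eq, h2] at h1
    rw [hcard, card_SL33, ← h1] at h3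
    exact Nat.eq_of_mul_eq_mul_left Nat.card_pos h3

end CfsgLib.L33Graph
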