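import Cfsg.Agent.Lib.L33Graph.Plane
import Cfsg.Agent.Lib.SLCard

set_option autoImplicit false

/-!
Transvections in the special linear group of degree three over three elements and their centralizers.
-/

namespace CfsgLib.L33Graph

open Matrix

local notation "M3" => Matrix (Fin 3) (Fin 3) (ZMod 3)

/-- The group. -/
abbrev SL33 : Type := Matrix.SpecialLinearGroup (Fin 3) (ZMod 3)

/-- Flags. -/
abbrev Fl : Type := {p : Fin 13 × Fin 13 // inc p.1 p.2 = true}

/-- Nonzero scalars. -/
def sgn (c : Bool) : ZMod 3 := if c then 1 else 2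

theorem sgn_ne : ∀ c, sgn c ≠ 0 := by decide

theorem sgn_mul : ∀ x1 x2 : ZMod 3, (x1 = 1 ∨ x1 = 2) → (x2 = 1 ∨ x2 = 2) →
    x1 * x2 ≠ 0 ∧ ∃ d, sgn d = x1 * x2 := by decide

theorem sgn_inj : ∀ c c', sgn c = sgn c' → c = c' := by decide

/-- A rank one matrix added to the identity. -/
def rankOne (v φ : Fin 3 → ZMod 3) : M3 := Matrix.of fun a b => (if a = b then 1 else 0) + v a * φ b

theorem det_rankOne (v φ : Fin 3 → ZMod 3) : (rankOne v φ).det = 1 + dot φ v := by
  simp [rankOne, Matrix.det_fin_three, dot]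
  ring

/-- The transvection of a flag. -/
def tv (f : Fl) (c : Bool) : SL33 :=
  ⟨rankOne (fun a => sgn c * vec f.1.1 a) (vec f.1.2), by
    rw [det_rankOne]
    have := (inc_iff _ _).mp f.2
    simp only [dot] at this ⊢
    linear_combination sgn c * this⟩

theorem tv_apply (f : Fl) (c : Bool) (a b : Fin 3) :
    (tv f c).1 a b = (if a = b then 1 else 0) + sgn c * vec f.1.1 a * vec f.1.2 b := rfl

theorem tv_inj {f f' : Fl} {c c' : Bool} (e : tv f c = tv f' c') : f = f' ∧ c = c' := by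
  have := rank_one_key _ _ f.2 _ _ f'.2 _ _ (sgn_ne c) (sgn_ne c') fun a b => by
    have h := congrFun (congrFun (congrArg Subtype.val e) a) b
    rw [tv_apply, tv_apply] at h
    linear_combination h
  exact ⟨Subtype.ext (Prod.ext this.1 this.2.1), sgn_inj _ _ this.2.2⟩

theorem tv_ne_one (f : Fl) (c : Bool) : tv f c ≠ 1 := by
  intro e
  obtain ⟨a, ha⟩ := Function.ne_iff.mp (vec_ne_zero f.1.1)
  obtain ⟨b, hb⟩ := Function.ne_iff.mp (vec_ne_zero f.1.2)
  have h := congrFun (congrFun (congrArg Subtype.val e) a) b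
  rw [tv_apply] at h
  change _ = (1 : M3) a b at h
  rw [Matrix.one_apply] at h
  have : sgn c * vec f.1.1 a * vec f.1.2 b = 0 := by linear_combination h
  rcases mul_eq_zero.mp this with h' | h'
  · rcases mul_eq_zero.mp h' with h'' | h''
    · exact sgn_ne c h''
    · exact ha h''
  · exact hb h'

/-- Two flags share their point or their line. -/
def Share (f f' : Fl) : Prop := f.1.1 = f'.1.1 ∨ f.1.2 = f'.1.2

theorem tv_commute (f f' : Fl) (c c' : Bool) : Commute (tv f c) (tv f' c') ↔ Share f f' := by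
  rw [Share, ← commute_key _ _ f.2 _ _ f'.2]
  have e : ∀ (g g' : Fl) (d d' : Bool) (a b : Fin 3), ((tv g d).1 * (tv g' d').1) a b =
      (if a = b then 1 else 0) + sgn d * vec g.1.1 a * vec g.1.2 b + sgn d' * vec g'.1.1 a * vec g'.1.2 b +
        sgn d * sgn d' * (dot (vec g.1.2) (vec g'.1.1) * (vec g.1.1 a * vec g'.1.2 b)) := by
    intro g g' d d' a b
    rw [Matrix.mul_apply, Fin.sum_univ_three]
    simp only [tv_apply, dot]
    fin_cases a <;> fin_cases b <;> simp <;> ring
  constructor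
  · intro h a b
    have h' := congrFun (congrFun (congrArg Subtype.val h.eq) a) b
    change ((tv f c).1 * (tv f' c').1) a b = ((tv f' c').1 * (tv f c).1) a b at h'
    rw [e, e] at h'
    refine mul_left_cancel₀ (mul_ne_zero (sgn_ne c) (sgn_ne c')) ?_
    linear_combination h'
  · intro h
    refine Subtype.ext (Matrix.ext fun a b => ?_)
    change ((tv f c).1 * (tv f' c').1) a b = ((tv f' c').1 * (tv f c).1) a b
    rw [e, e]
    linear_combination (sgn c * sgn c') * h a b

/-- The matrix moving the standard flag. -/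
def witSL (f : Fl) : SL33 := ⟨wit f.1.1 f.1.2, (wit_spec _ _ f.2).1⟩

/-- The standard root element. -/
def root (c : ZMod 3) : SL33 :=
  ⟨rankOne (fun a => if a = 0 then c else 0) (fun b => if b = 2 then 1 else 0), by
    rw [det_rankOne]; simp [dot]⟩

theorem wit_conj (f : Fl) (c : Bool) : witSL f * root (sgn c) = tv f c * witSL f := by
  obtain ⟨-, h0, d0, d1, d2⟩ := wit_spec _ _ f.2
  simp only [dot] at d0 d1 d2
  refine Subtype.ext (Matrix.ext fun a b => ?_)
  change ((witSL f).1 * (root (sgn c)).1) a b = ((tv f c).1 * (witSL f).1) a b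
  rw [Matrix.mul_apply, Matrix.mul_apply, Fin.sum_univ_three, Fin.sum_univ_three]
  change wit f.1.1 f.1.2 a 0 * ((if (0 : Fin 3) = b then 1 else 0) + _) + wit f.1.1 f.1.2 a 1 * (_ + _) +
    wit f.1.1 f.1.2 a 2 * (_ + _) = (tv f c).1 a 0 * wit f.1.1 f.1.2 0 b + (tv f c).1 a 1 * wit f.1.1 f.1.2 1 b +
      (tv f c).1 a 2 * wit f.1.1 f.1.2 2 b
  simp only [tv_apply, ← h0 a]
  fin_cases b
  · fin_cases a <;> simp <;> linear_combination -(sgn c * wit f.1.1 f.1.2 _ 0) * d0
  · fin_cases a <;> simp <;> linear_combination -(sgn c * wit f.1.1 f.1.2 _ 0) * d1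
  · fin_cases a <;> simp <;> linear_combination -(sgn c * wit f.1.1 f.1.2 _ 0) * d2

/-- The upper unitriangular matrices. -/
def upper : Subgroup SL33 where
  carrier := {g | g.1 0 0 = 1 ∧ g.1 1 1 = 1 ∧ g.1 2 2 = 1 ∧ g.1 1 0 = 0 ∧ g.1 2 0 = 0 ∧ g.1 2 1 = 0}
  one_mem' := by simp
  mul_mem' := by
    rintro g h ⟨a1, a2, a3, a4, a5, a6⟩ ⟨b1, b2, b3, b4, b5, b6⟩
    simp only [Set.mem_setOf_eq, Matrix.SpecialLinearGroup.coe_mul, Matrix.mul_apply, Fin.sum_univ_three,
      a1, a2, a3, a4, a5, a6, b1, b2, b3, b4, b5, b6]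
    norm_num
  inv_mem' := by
    rintro g ⟨a1, a2, a3, a4, a5, a6⟩
    simp only [Set.mem_setOf_eq, Matrix.SpecialLinearGroup.coe_inv, Matrix.adjugate_fin_three,
      Matrix.cons_val', Matrix.cons_val_zero, Matrix.cons_val_one, Matrix.cons_val, Matrix.of_apply,
      a1, a2, a3, a4, a5, a6]
    norm_num

/-- An upper unitriangular matrix. -/
def upperElt (x y z : ZMod 3) : SL33 :=
  ⟨!![1, x, z; 0, 1, y; 0, 0, 1], by rw [Matrix.det_fin_three]; simp⟩

theorem card_upper : Nat.card upper = 27 := by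
  let F : ZMod 3 × ZMod 3 × ZMod 3 → upper := fun p =>
    ⟨upperElt p.1 p.2.1 p.2.2, by refine ⟨?_, ?_, ?_, ?_, ?_, ?_⟩ <;> simp [upperElt]⟩
  have hF : Function.Bijective F := by
    constructor
    · rintro ⟨x, y, z⟩ ⟨x', y', z'⟩ e
      have e' : (upperElt x y z).1 = (upperElt x' y' z').1 := congrArg (fun g : upper => g.1.1) e
      have h1 := congrFun (congrFun e' 0) 1
      have h2 := congrFun (congrFun e' 1) 2
      have h3 := congrFun (congrFun e' 0) 2
      simp [upperElt] at h1 h2 h3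
      exact Prod.ext h1 (Prod.ext h2 h3)
    · rintro ⟨g, a1, a2, a3, a4, a5, a6⟩
      refine ⟨(g.1 0 1, g.1 1 2, g.1 0 2), Subtype.ext (Subtype.ext (Matrix.ext fun a b => ?_))⟩
      fin_cases a <;> fin_cases b <;> simp [F, upperElt, *]
  rw [← Nat.card_eq_of_bijective F hF, Nat.card_prod, Nat.card_prod, Nat.card_zmod]

theorem card_SL33 : Nat.card SL33 = 5616 := by
  haveI : Fact (Nat.Prime 3) := ⟨Nat.prime_three⟩
  have h := CfsgLib.SLCard.card_units_mul_card_SL (F := ZMod 3) (n := 3) (by norm_num)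
  rw [Matrix.card_GL_field] at h
  simp [Fin.prod_univ_three, Nat.card_eq_fintype_card, ZMod.card, Fintype.card_units] at h
  rw [← Nat.card_eq_fintype_card] at h
  change Nat.card (Matrix.SpecialLinearGroup (Fin 3) (ZMod 3)) = 5616
  omega

/-- Transvections. -/
def IsTV (x : SL33) : Prop := ∃ f c, x = tv f c

theorem IsTV.conj {x : SL33} (h : IsTV x) (g : SL33) : IsTV (g * x * g⁻¹) := by
  haveI : Fact (Nat.Prime 3) := ⟨Nat.prime_three⟩
  obtain ⟨f, c, rfl⟩ := h
  set v : Fin 3 → ZMod 3 := g.1 *ᵥ fun a => sgn c * vec f.1.1 a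
  set φ : Fin 3 → ZMod 3 := vec f.1.2 ᵥ* (g⁻¹).1
  have he : (g * tv f c * g⁻¹).1 = rankOne v φ := by
    have hone : (tv f c).1 = 1 + Matrix.vecMulVec (fun a => sgn c * vec f.1.1 a) (vec f.1.2) := by
      ext a b
      simp [tv_apply, Matrix.one_apply, Matrix.vecMulVec]
    rw [Matrix.SpecialLinearGroup.coe_mul, Matrix.SpecialLinearGroup.coe_mul, hone, mul_add, add_mul,
      mul_one, ← Matrix.SpecialLinearGroup.coe_mul, mul_inv_cancel, Matrix.mul_vecMulVec, Matrix.vecMulVec_mul]
    ext a b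
    simp [rankOne, Matrix.one_apply, Matrix.vecMulVec, v, φ]
  have hd : (rankOne v φ).det = 1 := he ▸ (g * tv f c * g⁻¹).2
  have hne : ∀ a b, ¬ (v a * φ b = 0) → v ≠ 0 ∧ φ ≠ 0 := fun a b h =>
    ⟨fun e => h (by rw [e]; simp), fun e => h (by rw [e]; simp)⟩
  have hvφ : v ≠ 0 ∧ φ ≠ 0 := by
    by_contra hh
    have h0 : ∀ a b, v a * φ b = 0 := fun a b => by_contra fun h => hh (hne a b h)
    have h1 : g * tv f c * g⁻¹ = 1 := Subtype.ext (by
      rw [he]; ext a b; simp [rankOne, h0 a b, Matrix.one_apply])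
    exact tv_ne_one f c (conj_eq_one_iff.mp h1)
  obtain ⟨i, x1, hx1, hv⟩ := exists_vec v hvφ.1
  obtain ⟨j, x2, hx2, hφ⟩ := exists_vec φ hvφ.2
  have key := sgn_mul
  have hij : inc i j = true := by
    rw [inc_iff]
    rw [det_rankOne] at hd
    have h0 : dot φ v = 0 := by linear_combination hd
    simp only [dot, hv, hφ] at h0 ⊢
    have : x1 * x2 ≠ 0 := (key x1 x2 hx1 hx2).1
    refine (mul_eq_zero.mp (?_ : x1 * x2 * _ = 0)).resolve_left this
    linear_combination h0
  obtain ⟨d, hd'⟩ : ∃ d, sgn d = x1 * x2 := (key x1 x2 hx1 hx2).2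
  refine ⟨⟨(i, j), hij⟩, d, Subtype.ext (Matrix.ext fun a b => ?_)⟩
  rw [he, tv_apply, hd', rankOne, Matrix.of_apply, hv, hφ]
  ring

theorem commute_iff_apply {x y : SL33} :
    Commute x y ↔ ∀ a b, (x.1 * y.1) a b = (y.1 * x.1) a b := by
  refine ⟨fun h a b => congrFun (congrFun (congrArg Subtype.val h.eq) a) b, fun h => ?_⟩
  exact Subtype.ext (Matrix.ext h)

theorem root_commute {u : SL33} (hu : u ∈ upper) (c : ZMod 3) : Commute u (root c) := by
  obtain ⟨a1, a2, a3, a4, a5, a6⟩ := hu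
  rw [commute_iff_apply]
  intro a b
  fin_cases a <;> fin_cases b <;>
    simp [root, rankOne, Matrix.mul_apply, Fin.sum_univ_three, a1, a2, a3, a4, a5, a6, mul_comm, add_comm]

theorem upper_centralizer {x : SL33} (h : ∀ u ∈ upper, Commute x u) : ∃ c, x = root c := by
  have hmem : ∀ p q r, upperElt p q r ∈ upper := fun p q r => by
    refine ⟨?_, ?_, ?_, ?_, ?_, ?_⟩ <;> simp [upperElt]
  have e1 := commute_iff_apply.mp (h _ (hmem 1 0 0))
  have e2 := commute_iff_apply.mp (h _ (hmem 0 1 0))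
  simp only [Fin.forall_fin_succ, Fin.forall_fin_zero, Matrix.mul_apply, Fin.sum_univ_three, upperElt] at e1 e2
  simp at e1 e2
  have hdet := x.2
  rw [Matrix.det_fin_three] at hdet
  obtain ⟨p, hp⟩ : ∃ p, p = x.1 0 0 := ⟨_, rfl⟩
  refine ⟨x.1 0 2, Subtype.ext (Matrix.ext fun a b => ?_)⟩
  have h10 : x.1 1 0 = 0 := by tauto
  have h20 : x.1 2 0 = 0 := by tauto
  have h21 : x.1 2 1 = 0 := by tauto
  have h01 : x.1 0 1 = 0 := by tauto
  have h12 : x.1 1 2 = 0 := by tauto
  have h11 : x.1 1 1 = p := by grind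
  have h22 : x.1 2 2 = p := by grind
  rw [h10, h20, h21, h01, h12, h11, h22, ← hp] at hdet
  have hp1 : p = 1 := by
    have key : ∀ p : ZMod 3, p * p * p = 1 → p = 1 := by decide
    exact key p (by linear_combination hdet)
  fin_cases a <;> fin_cases b <;> simp [root, rankOne, h10, h20, h21, h01, h12, h11, h22, ← hp, hp1]

theorem isTV_of_root {c : ZMod 3} (hc : c ≠ 0) : IsTV (root c) := by
  have h0 : inc 0 2 = true := by decide +kernel
  obtain ⟨d, rfl⟩ : ∃ d, sgn d = c := by revert hc; revert c; decide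
  refine ⟨⟨(0, 2), h0⟩, d, Subtype.ext (Matrix.ext fun a b => ?_)⟩
  rw [tv_apply]
  fin_cases a <;> fin_cases b <;> simp [root, rankOne, vec]

/-- Transvections are recognised by the orders of their centralizers. -/
theorem isTV_iff (x : SL33) :
    IsTV x ↔ x ≠ 1 ∧ 27 ∣ Nat.card (Subgroup.centralizer ({x} : Set SL33)) := by
  classical
  haveI : Fact (Nat.Prime 3) := ⟨Nat.prime_three⟩
  constructor
  · rintro ⟨f, c, rfl⟩
    refine ⟨tv_ne_one f c, ?_⟩
    have hle : upper.map (MulAut.conj (witSL f)).toMonoidHom ≤ Subgroup.centralizer ({tv f c} : Set SL33) := by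
      rintro _ ⟨u, hu, rfl⟩
      rw [Subgroup.mem_centralizer_singleton_iff, show tv f c = witSL f * root (sgn c) * (witSL f)⁻¹ by
        rw [wit_conj]; group]
      exact (((root_commute hu (sgn c)).map (MulAut.conj (witSL f)).toMonoidHom)).eq
    have hd := Subgroup.card_dvd_of_le hle
    rwa [Subgroup.card_map_of_injective (MulAut.conj (witSL f)).injective, card_upper] at hd
  · rintro ⟨hx1, h27⟩
    obtain ⟨P, hP⟩ := Sylow.exists_subgroup_card_pow_prime 3 (G := Subgroup.centralizer ({x} : Set SL33)) (n := 3)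
      (by rw [show (3 : ℕ) ^ 3 = 27 from rfl]; exact h27)
    let U : Sylow 3 SL33 := Sylow.ofCard upper (by
      rw [card_upper, card_SL33, show (5616 : ℕ) = 3 ^ 3 * 208 by norm_num,
        Nat.factorization_mul (by norm_num) (by norm_num), Finsupp.add_apply,
        Nat.Prime.factorization_pow Nat.prime_three, Finsupp.single_eq_same,
        Nat.factorization_eq_zero_of_not_dvd (show ¬ 3 ∣ 208 by norm_num), add_zero]
      rfl)
    let P' : Subgroup SL33 := P.map (Subgroup.centralizer ({x} : Set SL33)).subtype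
    have hP' : Nat.card P' = 27 := by
      rw [Subgroup.card_map_of_injective (Subgroup.subtype_injective _), hP]; norm_num
    obtain ⟨Q, hQ⟩ := (IsPGroup.of_card (n := 3) (by rw [hP']; norm_num) : IsPGroup 3 P').exists_le_sylow
    obtain ⟨g, hg⟩ := MulAction.exists_smul_eq SL33 Q U
    have hPQ : P' = (Q : Subgroup SL33) := Subgroup.eq_of_le_of_card_ge hQ (by
      rw [hP', ← card_upper, show upper = (U : Subgroup SL33) from rfl, Sylow.card_eq_multiplicity,
        Sylow.card_eq_multiplicity])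
    have hy : ∀ u ∈ upper, Commute (g * x * g⁻¹) u := by
      intro u hu
      have hu' : u ∈ ((g • Q : Sylow 3 SL33) : Subgroup SL33) := by rw [hg]; exact hu
      rw [Sylow.coe_subgroup_smul, Subgroup.mem_pointwise_smul_iff_inv_smul_mem, ← hPQ] at hu'
      obtain ⟨w, -, hw⟩ := hu'
      have hwx : Commute (w : SL33) x := Subgroup.mem_centralizer_singleton_iff.mp w.2
      have : u = MulAut.conj g (w : SL33) := by
        rw [show (w : SL33) = (MulAut.conj g)⁻¹ • u from hw, MulAut.smul_def]; simp [mul_assoc]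
      rw [this, ← MulAut.conj_apply]
      exact (hwx.symm.map (MulAut.conj g).toMonoidHom)
    obtain ⟨c, hc⟩ := upper_centralizer hy
    have hc0 : c ≠ 0 := by
      rintro rfl
      refine hx1 (conj_eq_one_iff.mp (hc.trans (Subtype.ext (Matrix.ext fun a b => ?_))))
      simp [root, rankOne, Matrix.one_apply]
    have := (isTV_of_root hc0).conj g⁻¹
    rw [← hc] at this
    simpa [mul_assoc] using this

/-- Only the identity commutes with all transvections. -/
theorem eq_one_of_commute {x : SL33} (h : ∀ f c, Commute x (tv f c)) : x = 1 := by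
  have e : ∀ i j, inc i j = true → ∀ a b, (∑ k, x.1 a k * vec i k) * vec j b =
      vec i a * ∑ k, vec j k * x.1 k b := by
    intro i j hij a b
    have h' := commute_iff_apply.mp (h ⟨(i, j), hij⟩ true) a b
    rw [Matrix.mul_apply, Matrix.mul_apply, Fin.sum_univ_three, Fin.sum_univ_three] at h'
    simp only [tv_apply, sgn, if_true, one_mul] at h'
    rw [Fin.sum_univ_three, Fin.sum_univ_three]
    fin_cases a <;> fin_cases b <;> simp at h' ⊢ <;> linear_combination h'
  have e01 := e 0 1 (by decide +kernel)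
  have e10 := e 1 0 (by decide +kernel)
  have e02 := e 0 2 (by decide +kernel)
  have e20 := e 2 0 (by decide +kernel)
  simp [Fin.forall_fin_succ, Fin.sum_univ_three, vec] at e01 e10 e02 e20
  have h10 : x.1 1 0 = 0 := by tauto
  have h20 : x.1 2 0 = 0 := by tauto
  have h21 : x.1 2 1 = 0 := by tauto
  have h01 : x.1 0 1 = 0 := by tauto
  have h02 : x.1 0 2 = 0 := by tauto
  have h12 : x.1 1 2 = 0 := by tauto
  have h11 : x.1 1 1 = x.1 0 0 := by tauto
  have h22 : x.1 2 2 = x.1 0 0 := by tauto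
  have hdet := x.2
  rw [Matrix.det_fin_three, h10, h20, h21, h01, h02, h12, h11, h22] at hdet
  have hp1 : x.1 0 0 = 1 := by
    have key : ∀ p : ZMod 3, p * p * p = 1 → p = 1 := by decide
    exact key _ (by linear_combination hdet)
  refine Subtype.ext (Matrix.ext fun a b => ?_)
  fin_cases a <;> fin_cases b <;> simp [h10, h20, h21, h01, h02, h12, h11, h22, hp1]

/-- An element of order thirteen. -/
def thirteen : SL33 := ⟨!![0, 0, 1; 1, 0, 1; 0, 1, 0], by rw [Matrix.det_fin_three]; decide⟩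

theorem thirteen_centralizer : Nat.card (Subgroup.centralizer ({thirteen} : Set SL33)) = 13 := by
  classical
  have hdet : ∀ g : SL33, Commute g thirteen → g.1 = Matrix.of
      ![![g.1 0 0, g.1 2 0, g.1 1 0], ![g.1 1 0, g.1 0 0 + g.1 2 0, g.1 1 0 + g.1 2 0],
        ![g.1 2 0, g.1 1 0, g.1 0 0 + g.1 2 0]] := by
    intro g hg
    have h := commute_iff_apply.mp hg
    simp [thirteen, Fin.forall_fin_succ, Matrix.mul_apply, Fin.sum_univ_three] at h
    refine Matrix.ext fun a b => ?_
    fin_cases a <;> fin_cases b <;> simp <;> grind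
  let M : ZMod 3 × ZMod 3 × ZMod 3 → M3 := fun p => Matrix.of
    ![![p.1, p.2.2, p.2.1], ![p.2.1, p.1 + p.2.2, p.2.1 + p.2.2], ![p.2.2, p.2.1, p.1 + p.2.2]]
  let S : Type := {p : ZMod 3 × ZMod 3 × ZMod 3 // (M p).det = 1}
  have hS : Nat.card S = 13 := by
    rw [Nat.card_eq_fintype_card]
    simp only [S, Matrix.det_fin_three]
    decide +kernel
  have hcomm : ∀ p : ZMod 3 × ZMod 3 × ZMod 3, ∀ a b, (M p * thirteen.1) a b = (thirteen.1 * M p) a b := by
    decide +kernel
  rw [← hS]
  refine (Nat.card_eq_of_bijective (fun p : S => (⟨⟨M p.1, p.2⟩, Subgroup.mem_centralizer_singleton_iff.mpr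
    (commute_iff_apply.mpr (hcomm p.1)).eq⟩ : Subgroup.centralizer ({thirteen} : Set SL33))) ⟨?_, ?_⟩).symm
  · intro p q e
    have e' : M p.1 = M q.1 := congrArg (fun g : Subgroup.centralizer ({thirteen} : Set SL33) => g.1.1) e
    refine Subtype.ext ?_
    have h0 := congrFun (congrFun e' 0) 0
    have h1 := congrFun (congrFun e' 1) 0
    have h2 := congrFun (congrFun e' 2) 0
    simp [M] at h0 h1 h2
    exact Prod.ext h0 (Prod.ext h1 h2)
  · rintro ⟨g, hg⟩
    have e := hdet g (Subgroup.mem_centralizer_singleton_iff.mp hg)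
    refine ⟨⟨(g.1 0 0, g.1 1 0, g.1 2 0), ?_⟩, Subtype.ext (Subtype.ext e.symm)⟩
    show (M _).det = 1
    rw [show M (g.1 0 0, g.1 1 0, g.1 2 0) = g.1 from e.symm]
    exact g.2

end CfsgLib.L33Graph
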