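import Mathlib

set_option autoImplicit false

/-!
The projective plane of order three.
-/

namespace CfsgLib.L33Graph

/-- Normalised coordinates of points and lines. -/
def vec : Fin 13 → Fin 3 → ZMod 3 :=
  ![![1, 0, 0], ![0, 1, 0], ![0, 0, 1], ![1, 1, 1], ![1, 1, 0], ![1, 0, 1], ![0, 1, 1], ![1, 2, 0], ![1, 0, 2],
    ![0, 1, 2], ![1, 1, 2], ![1, 2, 1], ![1, 2, 2]]

/-- The scalar product. -/
def dot (v w : Fin 3 → ZMod 3) : ZMod 3 := v 0 * w 0 + v 1 * w 1 + v 2 * w 2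

/-- Incidence of a point and a line. -/
def inc (i j : Fin 13) : Bool := (([582, 293, 147, 904, 6276, 5378, 3585, 1052, 2090, 4169, 1248, 2384, 4656] : List ℕ).getD i 0).testBit j

/-- A line through two points. -/
def join (i k : Fin 13) : Fin 13 := Fin.ofNat 13 (([1, 2, 1, 9, 2, 1, 9, 2, 1, 6, 6, 6, 9, 2, 0, 0, 8, 2, 8, 0, 2, 5, 0, 5, 8, 5, 1, 0, 0, 7, 7, 1, 0, 4, 1, 0, 7, 4, 4, 9, 8, 7, 3, 7, 8, 9, 3, 3, 3, 7, 8, 9, 2, 2, 7, 7, 2, 12, 11, 2, 11, 12, 7, 11, 12, 1, 8, 1, 8, 12, 1, 10, 10, 1, 12, 10, 8, 12, 9, 0, 0, 9, 11, 10, 0, 10, 11, 0, 10, 11, 9, 2, 2, 4, 3, 2, 10, 10, 2, 3, 3, 10, 4, 4, 1, 5, 1, 3, 11, 1, 11, 3, 1, 3, 5, 11, 5, 6, 0, 0, 3, 12, 12, 0, 3, 3, 0, 6, 6, 12, 6, 5, 7, 7, 7, 10, 10, 10, 5, 6, 5, 6, 5, 6, 8, 4, 8, 11, 8, 11, 4, 11, 6, 6, 4, 4, 9, 5, 4, 9, 12, 12, 9, 4, 5, 12, 5, 4, 4] : List ℕ).getD (13 * (i : ℕ) + k) 0)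

/-- A matrix moving the standard flag to the given one. -/
def wit (i j : Fin 13) : Matrix (Fin 3) (Fin 3) (ZMod 3) :=
  Matrix.of fun a b => ((([6643, 4618, 6643, 6643, 6643, 6643, 11017, 6643, 6643, 17659, 6643, 6643, 6643, 2223, 6643, 6594, 6643, 6643, 8781, 6643, 6643, 15339, 6643, 6643, 6643, 6643, 900, 975, 6643, 6643, 1137, 6643, 6643, 1383, 6643, 6643, 6643, 6643, 6643, 6643, 6643, 6643, 11773, 6643, 6643, 6643, 3430, 14041, 18415, 6643, 6643, 6643, 6643, 6643, 6670, 6643, 6643, 6643, 6643, 2701, 6643, 6643, 6643, 8857, 15499, 6643, 5347, 6643, 6643, 6643, 6643, 6643, 6643, 14014, 6643, 18388, 6643, 16201, 2952, 6643, 6643, 6643, 6643, 6643, 6643, 6643, 6643, 13881, 16068, 9510, 6643, 6643, 6643, 6697, 11071, 4672, 6643, 6643, 6643, 6643, 6643, 17713, 6643, 6643, 6643, 6076, 6643, 12475, 6643, 8101, 6643, 6643, 6643, 6643, 6643, 10288, 6643, 3681, 6643, 6643, 10239, 6643, 6643, 8052, 6643, 6643, 6643, 6643,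 6643, 16797, 6643, 6643, 6643, 6643, 6643, 8128, 12502, 4159, 6643, 6643, 19144, 6643, 6643, 6643, 6643, 6643, 6643, 5401, 6643, 11800, 6643, 14068, 6643, 6643, 9613, 6643, 6643, 6643, 6643, 6643, 6130, 8155, 6643, 6643, 6643, 19171, 6643, 6643, 16984] : List ℕ).getD (13 * (i : ℕ) + j) 0 / 3 ^ (3 * (a : ℕ) + b) : ℕ) : ZMod 3)

theorem inc_iff : ∀ i j, inc i j = true ↔ dot (vec i) (vec j) = 0 := by decide +kernel

theorem vec_ne_zero : ∀ i, vec i ≠ 0 := by decide +kernel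

theorem exists_vec : ∀ v : Fin 3 → ZMod 3, v ≠ 0 → ∃ i, ∃ c : ZMod 3, (c = 1 ∨ c = 2) ∧ ∀ a, v a = c * vec i a := by
  intro v hv
  have key : ∀ x y z : ZMod 3, ¬ (x = 0 ∧ y = 0 ∧ z = 0) →
      ∃ i, ∃ c : ZMod 3, (c = 1 ∨ c = 2) ∧ x = c * vec i 0 ∧ y = c * vec i 1 ∧ z = c * vec i 2 := by
    decide +kernel
  obtain ⟨i, c, hc, h0, h1, h2⟩ := key (v 0) (v 1) (v 2) fun h => hv (funext fun a => by
    fin_cases a <;> simp [h.1, h.2.1, h.2.2])
  exact ⟨i, c, hc, fun a => by fin_cases a <;> assumption⟩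

theorem join_spec : ∀ i k, inc i (join i k) = true ∧ inc k (join i k) = true := by decide +kernel

theorem line_unique : ∀ i k, i ≠ k → ∀ j, inc i j = true → inc k j = true → ∀ j', inc i j' = true →
    inc k j' = true → j = j' := by decide +kernel

theorem point_unique : ∀ j l, j ≠ l → ∀ i, inc i j = true → inc i l = true → ∀ i', inc i' j = true →
    inc i' l = true → i = i' := by decide +kernel

theorem two_points : ∀ j, ∃ i k, i ≠ k ∧ inc i j = true ∧ inc k j = true := by decide +kernel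

theorem two_lines : ∀ i, ∃ j l, j ≠ l ∧ inc i j = true ∧ inc i l = true := by decide +kernel

theorem wit_spec : ∀ i j, inc i j = true →
    (wit i j).det = 1 ∧ (∀ a, wit i j a 0 = vec i a) ∧
      dot (vec j) (fun a => wit i j a 0) = 0 ∧ dot (vec j) (fun a => wit i j a 1) = 0 ∧
      dot (vec j) (fun a => wit i j a 2) = 1 := by
  simp only [Matrix.det_fin_three]
  decide +kernel

theorem commute_key : ∀ i j, inc i j = true → ∀ i' j', inc i' j' = true →
    ((∀ a b, dot (vec j) (vec i') * (vec i a * vec j' b) = dot (vec j') (vec i) * (vec i' a * vec j b)) ↔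
      (i = i' ∨ j = j')) := by decide +kernel

theorem rank_one_key : ∀ i j, inc i j = true → ∀ i' j', inc i' j' = true → ∀ c c' : ZMod 3, c ≠ 0 → c' ≠ 0 →
    (∀ a b, c * (vec i a * vec j b) = c' * (vec i' a * vec j' b)) → i = i' ∧ j = j' ∧ c = c' := by
  intro i j h i' j' h' c c' hc hc' e
  have key : ∀ i j, inc i j = true → ∀ i' j', inc i' j' = true →
      (i = i' ∧ j = j') ∨ ((¬ ∀ a b, vec i a * vec j b = vec i' a * vec j' b) ∧
        ¬ ∀ a b, vec i a * vec j b = 2 * (vec i' a * vec j' b)) := by decide +kernel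
  have hcc : c⁻¹ * c' = 1 ∨ c⁻¹ * c' = 2 :=
    (by decide +kernel : ∀ x y : ZMod 3, x ≠ 0 → y ≠ 0 → x⁻¹ * y = 1 ∨ x⁻¹ * y = 2) c c' hc hc'
  have e' : ∀ a b, vec i a * vec j b = c⁻¹ * c' * (vec i' a * vec j' b) := fun a b => by
    rw [mul_assoc, ← e a b, inv_mul_cancel_left₀ hc]
  rcases key i j h i' j' h' with ⟨rfl, rfl⟩ | ⟨k1, k2⟩
  · refine ⟨rfl, rfl, ?_⟩
    obtain ⟨a, ha⟩ := Function.ne_iff.mp (vec_ne_zero i)
    obtain ⟨b, hb⟩ := Function.ne_iff.mp (vec_ne_zero j)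
    exact mul_right_cancel₀ (mul_ne_zero ha hb) (e a b)
  · exfalso
    rcases hcc with hx | hx <;> simp only [hx, one_mul] at e'
    · exact k1 e'
    · exact k2 e'

/-- Collineations. -/
def IsColl (σ : Equiv.Perm (Fin 13)) : Prop :=
  ∃ τ : Equiv.Perm (Fin 13), ∀ i j, inc (σ i) (τ j) = inc i j

/-- Three points on a line. -/
def coll (a b c : Fin 13) : Bool := inc c (join a b)

/-- Ordered quadrilaterals. -/
def frames : Finset (Fin 13 × Fin 13 × Fin 13 × Fin 13) :=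
  Finset.univ.filter fun x => x.1 ≠ x.2.1 ∧ coll x.1 x.2.1 x.2.2.1 = false ∧
    coll x.1 x.2.1 x.2.2.2 = false ∧ coll x.1 x.2.2.1 x.2.2.2 = false ∧ coll x.2.1 x.2.2.1 x.2.2.2 = false

theorem frames_card : frames.card ≤ 5616 := by decide +kernel

theorem fixed_step {σ τ : Equiv.Perm (Fin 13)} (h : ∀ i j, inc (σ i) (τ j) = inc i j) {a b c d q : Fin 13}
    (ha : σ a = a) (hb : σ b = b) (hc : σ c = c) (hd : σ d = d)
    (hq : a ≠ b ∧ c ≠ d ∧ join a b ≠ join c d ∧ inc q (join a b) = true ∧ inc q (join c d) = true) : σ q = q := by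
  obtain ⟨hab, hcd, hne, hq1, hq2⟩ := hq
  have hl : ∀ a b, σ a = a → σ b = b → a ≠ b → τ (join a b) = join a b := fun a b ha hb hab =>
    line_unique a b hab _ (by have e := h a (join a b); rw [ha] at e; exact e.trans (join_spec a b).1)
      (by have e := h b (join a b); rw [hb] at e; exact e.trans (join_spec a b).2) _
      (join_spec a b).1 (join_spec a b).2
  refine point_unique _ _ hne _ ?_ ?_ q hq1 hq2
  · rw [← hl a b ha hb hab, h, hq1]
  · rw [← hl c d hc hd hcd, h, hq2]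

theorem coll_fix {σ : Equiv.Perm (Fin 13)} (hσ : IsColl σ) (h0 : σ 0 = 0) (h1 : σ 1 = 1) (h2 : σ 2 = 2)
    (h3 : σ 3 = 3) : σ = 1 := by
  obtain ⟨τ, h⟩ := hσ
  have h4 : σ 4 = 4 := fixed_step h h0 h1 h2 h3 (by decide +kernel)
  have h5 : σ 5 = 5 := fixed_step h h0 h2 h1 h3 (by decide +kernel)
  have h6 : σ 6 = 6 := fixed_step h h1 h2 h0 h3 (by decide +kernel)
  have h9 : σ 9 = 9 := fixed_step h h4 h5 h1 h2 (by decide +kernel)
  have h7 : σ 7 = 7 := fixed_step h h5 h6 h0 h1 (by decide +kernel)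
  have h8 : σ 8 = 8 := fixed_step h h4 h6 h0 h2 (by decide +kernel)
  have h10 : σ 10 = 10 := fixed_step h h2 h4 h0 h9 (by decide +kernel)
  have h11 : σ 11 = 11 := fixed_step h h1 h5 h0 h9 (by decide +kernel)
  have h12 : σ 12 = 12 := fixed_step h h0 h6 h1 h8 (by decide +kernel)
  refine Equiv.ext fun i => ?_
  fin_cases i <;> assumption

theorem IsColl.frame {σ : Equiv.Perm (Fin 13)} (hσ : IsColl σ) : (σ 0, σ 1, σ 2, σ 3) ∈ frames := by
  obtain ⟨τ, h⟩ := hσ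
  have key : ∀ a b c, a ≠ b → coll a b c = false → coll (σ a) (σ b) (σ c) = false := by
    intro a b c hab hc
    by_contra hh
    rw [Bool.not_eq_false, coll] at hh
    have hj : join (σ a) (σ b) = τ (join a b) := line_unique _ _ (σ.injective.ne hab) _ (join_spec _ _).1
      (join_spec _ _).2 _ (by rw [h, (join_spec a b).1]) (by rw [h, (join_spec a b).2])
    rw [hj, h] at hh
    rw [coll, hh] at hc
    exact Bool.false_ne_true hc.symm
  simp only [frames, Finset.mem_filter, Finset.mem_univ, true_and]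
  exact ⟨σ.injective.ne (by decide), key 0 1 2 (by decide) (by decide +kernel),
    key 0 1 3 (by decide) (by decide +kernel), key 0 2 3 (by decide) (by decide +kernel),
    key 1 2 3 (by decide) (by decide +kernel)⟩

theorem IsColl.comp {σ σ' : Equiv.Perm (Fin 13)} (h : IsColl σ) (h' : IsColl σ') : IsColl (σ * σ') := by
  obtain ⟨τ, h⟩ := h
  obtain ⟨τ', h'⟩ := h'
  exact ⟨τ * τ', fun i j => by simp only [Equiv.Perm.mul_apply, h, h']⟩

theorem IsColl.inv {σ : Equiv.Perm (Fin 13)} (h : IsColl σ) : IsColl σ⁻¹ := by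
  obtain ⟨τ, h⟩ := h
  exact ⟨τ⁻¹, fun i j => by rw [← h]; simp⟩

/-- The collineation group. -/
def Coll : Subgroup (Equiv.Perm (Fin 13)) where
  carrier := {σ | IsColl σ}
  one_mem' := ⟨1, fun _ _ => rfl⟩
  mul_mem' := IsColl.comp
  inv_mem' := IsColl.inv

theorem card_coll : Nat.card Coll ≤ 5616 := by
  classical
  let F : Coll → frames := fun σ => ⟨(σ.1 0, σ.1 1, σ.1 2, σ.1 3), IsColl.frame σ.2⟩
  have hF : Function.Injective F := by
    intro σ σ' e
    have e' := congrArg Subtype.val e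
    simp only [F, Prod.mk.injEq] at e'
    obtain ⟨e0, e1, e2, e3⟩ := e'
    have := coll_fix (IsColl.comp (IsColl.inv σ'.2) σ.2) (by simp [e0]) (by simp [e1]) (by simp [e2]) (by simp [e3])
    exact Subtype.ext (inv_mul_eq_one.mp this).symm
  refine (Nat.card_le_card_of_injective F hF).trans ?_
  rw [Nat.card_eq_fintype_card, Fintype.card_coe]
  exact frames_card

end CfsgLib.L33Graph
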